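import Groth.Agent.Sga4h.NormalCl
import Mathlib.FieldTheory.IsAlgClosed.Basic
import Mathlib.RingTheory.IntegralClosure.IntegrallyClosed
import Mathlib.RingTheory.Algebraic.Integral
import Mathlib.AlgebraicGeometry.FunctionField
import Mathlib.AlgebraicGeometry.Morphisms.Integral
import Mathlib.AlgebraicGeometry.Morphisms.UnderlyingMap

/-!
# The integral closure of a ring in an algebraically closed field

`B = integralClosure A K`, `K` algebraically closed: `B` is normal with algebraically closed fraction field.
* `isAlgClosed_of_isFractionRing`, `isIntegrallyClosed`;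
* `exists_factor`: `g : Spec K ⟶ V`, `V` affine, factors as `g'' ≫ π`, `π` integral, `g''` dominant, through a
  normal affine integral scheme with algebraically closed function field.
-/

set_option autoImplicit false
universe u

open AlgebraicGeometry CategoryTheory Polynomial

noncomputable section

namespace K625.Aic

theorem isIntegrallyClosed (A K : Type*) [CommRing A] [Field K] [Algebra A K] :
    IsIntegrallyClosed (integralClosure A K) := by
  let B := integralClosure A K
  let L := FractionRing B
  let j : L →+* K := IsFractionRing.lift (A := B) (K := L) (L := K) (g := algebraMap B K)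
    Subtype.val_injective
  have hj : ∀ b : B, j (algebraMap B L b) = b := fun b => IsFractionRing.lift_algebraMap _ b
  rw [isIntegrallyClosed_iff L]
  intro x hx
  have h1 : IsIntegral B (j x) := by
    obtain ⟨p, hp, hp0⟩ := hx
    refine ⟨p, hp, ?_⟩
    have h2 : (algebraMap B K) = j.comp (algebraMap B L) := RingHom.ext fun b => (hj b).symm
    rw [h2, ← Polynomial.hom_eval₂, hp0, map_zero]
  have h3 : IsIntegral A (j x) := isIntegral_trans (R := A) (A := B) _ h1
  exact ⟨⟨j x, h3⟩, j.injective (hj _)⟩

theorem isAlgClosed_of_isFractionRing (A K L : Type*) [CommRing A] [Field K] [IsAlgClosed K] [Algebra A K]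
    [Field L] [Algebra (integralClosure A K) L] [IsFractionRing (integralClosure A K) L] : IsAlgClosed L := by
  let B := integralClosure A K
  let j : L →+* K := IsFractionRing.lift (A := B) (K := L) (L := K) (g := algebraMap B K)
    Subtype.val_injective
  have hj : ∀ b : B, j (algebraMap B L b) = b := fun b => IsFractionRing.lift_algebraMap _ b
  let _ : Algebra L K := j.toAlgebra
  have : IsScalarTower B L K := IsScalarTower.of_algebraMap_eq fun b => (hj b).symm
  refine IsAlgClosed.of_exists_root _ fun p hp hirr => ?_
  obtain ⟨α, hα⟩ := IsAlgClosed.exists_root (p.map j) (by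
    rw [degree_map]
    exact hirr.degree_pos.ne')
  have h1 : IsAlgebraic L α := ⟨p, hp.ne_zero, by
    rw [aeval_def, eval₂_eq_eval_map]
    exact hα⟩
  have h2 : IsAlgebraic B α := (IsFractionRing.isAlgebraic_iff B L K).2 h1
  obtain ⟨b, hb, hbi⟩ := h2.exists_integral_multiple
  have h3 : IsIntegral A (b • α) := isIntegral_trans (R := A) (A := B) _ hbi
  have hb' : algebraMap B L b ≠ 0 := by
    rwa [Ne, FaithfulSMul.algebraMap_eq_zero_iff]
  refine ⟨algebraMap B L ⟨b • α, h3⟩ / algebraMap B L b, ?_⟩
  have h4 : j (algebraMap B L ⟨b • α, h3⟩ / algebraMap B L b) = α := by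
    rw [map_div₀, hj, hj, div_eq_iff]
    · change b • α = α * b
      rw [mul_comm]
      rfl
    · exact fun h => hb (Subtype.ext h)
  apply j.injective
  rw [map_zero, ← Polynomial.eval₂_hom, h4, Polynomial.eval₂_eq_eval_map]
  exact hα

variable (A K : Type u) [CommRing A] [Field K] [Algebra A K]

/-- `Spec` of the integral closure. -/
abbrev SpecIC : Scheme.{u} := Spec (CommRingCat.of (integralClosure A K))

/-- the canonical point. -/
abbrev pt : Spec (CommRingCat.of K) ⟶ SpecIC A K :=
  Spec.map (CommRingCat.ofHom (algebraMap (integralClosure A K) K))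

/-- the projection. -/
abbrev proj : SpecIC A K ⟶ Spec (CommRingCat.of A) :=
  Spec.map (CommRingCat.ofHom (algebraMap A (integralClosure A K)))

instance isIntegralHom_proj : IsIntegralHom (proj A K) := by
  rw [IsIntegralHom.SpecMap_iff]
  exact algebraMap_isIntegral_iff.mpr inferInstance

instance isDominant_pt : IsDominant (pt A K) := by
  refine ⟨?_⟩
  refine (PrimeSpectrum.denseRange_comap_iff_ker_le_nilRadical _).2 ?_
  change RingHom.ker (algebraMap (integralClosure A K) K) ≤ _
  rw [(RingHom.injective_iff_ker_eq_bot (algebraMap (integralClosure A K) K)).1 Subtype.val_injective]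
  exact bot_le

theorem pt_proj : pt A K ≫ proj A K = Spec.map (CommRingCat.ofHom (algebraMap A K)) := by
  rw [← Spec.map_comp, ← CommRingCat.ofHom_comp]
  rfl

theorem isAlgClosed_functionField_Spec (R : CommRingCat.{u}) [IsDomain R]
    (L : Type u) [Field L] [IsAlgClosed L] [Algebra R L] [IsFractionRing R L] :
    IsAlgClosed (Spec R).functionField := by
  have e : L ≃ₐ[R] (Spec R).functionField := IsLocalization.algEquiv (nonZeroDivisors R) _ _
  exact IsAlgClosed.of_ringEquiv L _ e.toRingEquiv

theorem isSepClosed_of_ringEquiv {K L : Type*} [Field K] [Field L] (e : K ≃+* L) [IsSepClosed K] :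
    IsSepClosed L := by
  refine IsSepClosed.of_exists_root L (fun p hp hirr hsep => ?_)
  have h1 : (p.map (e.symm : L →+* K)).Separable := hsep.map
  have h2 : (p.map (e.symm : L →+* K)).degree ≠ 0 := by
    rw [Polynomial.degree_map]
    exact hirr.degree_pos.ne'
  obtain ⟨x, hx⟩ := IsSepClosed.exists_root _ h2 h1
  refine ⟨e x, ?_⟩
  have h3 : p = (p.map (e.symm : L →+* K)).map (e : K →+* L) := by
    rw [Polynomial.map_map]
    simp
  rw [h3, Polynomial.eval_map]
  have h4 := Polynomial.eval₂_at_apply (p := p.map (e.symm : L →+* K)) (e : K →+* L) x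
  rw [hx.eq_zero, map_zero] at h4
  exact h4

theorem isSepClosed_functionField_Spec (R : CommRingCat.{u}) [IsDomain R]
    (L : Type u) [Field L] [IsSepClosed L] [Algebra R L] [IsFractionRing R L] :
    IsSepClosed (Spec R).functionField := by
  have e : L ≃ₐ[R] (Spec R).functionField := IsLocalization.algEquiv (nonZeroDivisors R) _ _
  exact isSepClosed_of_ringEquiv e.toRingEquiv

theorem isAlgClosed_functionField [IsAlgClosed K] : IsAlgClosed (SpecIC A K).functionField := by
  have h := isAlgClosed_of_isFractionRing A K (FractionRing (integralClosure A K))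
  exact isAlgClosed_functionField_Spec (CommRingCat.of (integralClosure A K))
    (FractionRing (integralClosure A K))

/-- factorization of a geometric point of an affine scheme. -/
theorem exists_factor {K : Type u} [Field K] [IsAlgClosed K] {V : Scheme.{u}} [IsAffine V]
    (g : Spec (CommRingCat.of K) ⟶ V) :
    ∃ (S : Scheme.{u}) (π : S ⟶ V) (g'' : Spec (CommRingCat.of K) ⟶ S) (_ : IsAffine S) (_ : IsIntegral S)
      (_ : ∀ s : S, IsIntegrallyClosed (S.presheaf.stalk s)) (_ : IsAlgClosed S.functionField)
      (_ : IsIntegralHom π) (_ : IsDominant g''), g'' ≫ π = g := by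
  let φ : Γ(V, ⊤) →+* K := (Spec.preimage (g ≫ V.isoSpec.hom)).hom
  let _ : Algebra Γ(V, ⊤) K := φ.toAlgebra
  have hφ : Spec.map (CommRingCat.ofHom (algebraMap Γ(V, ⊤) K)) = g ≫ V.isoSpec.hom :=
    Spec.map_preimage _
  have h1 := isIntegrallyClosed Γ(V, ⊤) K
  refine ⟨SpecIC Γ(V, ⊤) K, proj Γ(V, ⊤) K ≫ V.isoSpec.inv, pt Γ(V, ⊤) K, inferInstance, inferInstance,
    fun s => Groth.Agent.Sga4h.NormalCl.isIntegrallyClosed_stalk _ s, isAlgClosed_functionField _ _, inferInstance,
    inferInstance, ?_⟩
  rw [← Category.assoc, pt_proj, hφ, Category.assoc, Iso.hom_inv_id, Category.comp_id]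

end K625.Aic
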