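import Groth.Agent.Sga4h.FieldExtHPt
import Groth.Agent.Sga4h.PushDer

/-!
# Higher direct images and extensions of separably closed fields

`i : k →+* K` separably closed fields, `Y = Y₀ ×_k K`, `m : Y ⟶ Y₀`, `d` invertible in `k`:
* `acyc`: `ℤ/d → m_* ℤ/d` is an isomorphism, `R^q m_* ℤ/d = 0` for `q > 0`;
* `nonempty_iso`: `R^q h₀_* (ℤ/d) ≅ R^q (m ≫ h₀)_* (ℤ/d)` for `h₀ : Y₀ ⟶ X`.
-/

set_option autoImplicit false
universe u

open CategoryTheory CategoryTheory.Limits AlgebraicGeometry Opposite IsLocalRing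

namespace K625.FieldExt

open Groth.Agent.Etrest.StrictLoc Groth.Agent.Sga4h.Acyc Groth.Agent.Sga4h.SLoc
  Groth.Agent.Sga4h.StalkAcyc Groth.Agent.Sga4h.FieldExtHPt Groth.Agent.Sga4h.PushDer

/-- A strictly henselian local ring has the cohomology of a point. -/
theorem hpt_spec (R : Type u) [CommRing R] [HenselianLocalRing R] [IsSepClosed (ResidueField R)]
    (n : ℕ) : HPt (Spec (CommRingCat.of R)) n := by
  refine ⟨fun q hq => Groth.Agent.S0073.result R _ q hq, ?_⟩
  have h : _root_.IsPreconnected (Set.univ : Set (PrimeSpectrum R)) := by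
    apply isPreconnected_of_forall (IsLocalRing.closedPoint R)
    intro y _
    refine ⟨closure {y}, Set.subset_univ _, ?_, subset_closure rfl, isPreconnected_singleton.closure⟩
    exact (IsLocalRing.specializes_closedPoint y).mem_closure
  have h1 : PreconnectedSpace (Spec (CommRingCat.of R)) := ⟨h⟩
  have : ConnectedSpace (Spec (CommRingCat.of R)) := ⟨⟨IsLocalRing.closedPoint R⟩⟩
  exact Groth.Agent.Etrest.SHPoint.nonempty_H0_const _ _

variable {k K : Type u} [Field k] [IsSepClosed k] [Field K] [IsSepClosed K] (i : k →+* K)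
  {Y₀ Y : Scheme.{u}} {a : Y₀ ⟶ Spec (CommRingCat.of k)} {m : Y ⟶ Y₀} {e : Y ⟶ Spec (CommRingCat.of K)}
  (H : IsPullback m e a (Spec.map (CommRingCat.ofHom i)))

include H

theorem acyc (d : ℕ) (hd : (d : k) ≠ 0) : Acyc m (EtCoh.const Y₀ (ZMod d)) := by
  have h1 : QuasiCompact m := MorphismProperty.of_isPullback (P := @QuasiCompact) H.flip inferInstance
  have h2 : QuasiSeparated m := MorphismProperty.of_isPullback (P := @QuasiSeparated) H.flip inferInstance
  refine acyc_const m d (by rintro rfl; exact hd Nat.cast_zero) fun y => ?_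
  obtain ⟨R, _, _, ξ, hξ, hy⟩ := exists_strictLoc Y₀ y
  refine ⟨R, inferInstance, inferInstance, ξ, hξ, hy, ?_⟩
  have h3 := hξ.henselian
  have h4 := hξ.sepClosed
  have h5 : HPt (pullback (ξ ≫ a) (spm i)) d := hpt_of_field_ext i (ξ ≫ a) d hd (hpt_spec R d)
  have H2 : IsPullback (pullback.snd m ξ) (pullback.fst m ξ ≫ e) (ξ ≫ a) (spm i) :=
    ((IsPullback.of_hasPullback m ξ).paste_horiz H.flip).flip
  exact h5.of_iso H2.isoPullback.symm

theorem nonempty_iso (d : ℕ) (hd : (d : k) ≠ 0) {X : Scheme.{u}} (h₀ : Y₀ ⟶ X) (q : ℕ) :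
    Nonempty ((EtCoh.Rpush h₀ q).obj (EtCoh.const Y₀ (ZMod d)) ≅
      (EtCoh.Rpush (m ≫ h₀) q).obj (EtCoh.const Y (ZMod d))) := by
  obtain ⟨h1, h2⟩ := acyc i H d hd
  exact ⟨(EtCoh.Rpush h₀ q).mapIso (asIso ((EtCoh.pullPushAdj m).unit.app (EtCoh.const Y₀ (ZMod d)))) ≪≫
    rpushCompIso m h₀ _ h2 q ≪≫ (EtCoh.Rpush (m ≫ h₀) q).mapIso (EtCore.pullConst m (ZMod d))⟩

end K625.FieldExt
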