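import Groth.Agent.Sga4h.ColimAcyc
import Groth.Agent.Sga4h.H924.ColimCase
import Groth.Agent.Sga1.StrictSection

/-!
# Higher direct images of sheaves pulled back from a geometric point

`K` separably closed, `e : Y ⟶ Spec K`, `h : Y ⟶ X` quasi-compact quasi-separated, `n > 0`.
* `exists_iso_const`: a constructible sheaf killed by `n` on `Spec K` is constant, on a finite group killed by `n`;
* `isZero_Rpush_colim`: vanishing of `R^q h_* e^* F` for filtered colimits `F`;
* `isZero_Rpush`: if `R^q h_* (Z/d) = 0` for all `d ∣ n` then `R^q h_* e^* F = 0` for all `F` killed by `n`.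
-/

set_option autoImplicit false
universe u

open CategoryTheory CategoryTheory.Limits AlgebraicGeometry Opposite

namespace K625.FieldVanish

open Groth.Agent Groth.Agent.Etbase Groth.Agent.Sga4B.LocCohLocal Groth.Agent.Sga4B.Pure

theorem exists_iso_const {K : Type u} [Field K] [IsSepClosed K] {n : ℕ} (F : EtCoh.Ab (Spec (CommRingCat.of K)))
    (hF : EtPBC.IsConstructible F) (hn : EtCoh.KilledBy n F) :
    ∃ (M : Type) (_ : AddCommGroup M) (_ : Finite M), (∀ x : M, n • x = 0) ∧ Nonempty (F ≅ EtCoh.const _ M) := by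
  obtain ⟨ι, W, hW, hF'⟩ := (EtpbcA.OverSite2.isFLC_iff_pull _).1
    (Groth.Agent.Sga4h.H924.ColimCase.isFLC_of_isConstructible F hF)
  let x : Spec (CommRingCat.of K) := (⟨⊥, Ideal.isPrime_bot⟩ : PrimeSpectrum K)
  obtain ⟨a, w, hw⟩ := hW x
  obtain ⟨M, _, _, ⟨e⟩⟩ := hF' a
  let g : (W a).left ⟶ Spec (CommRingCat.of K) := EtpbcA.OverSite.str (W a)
  have hg : Etale g := inferInstance
  have hne : Nonempty (W a).left := ⟨w⟩
  have hM : ∀ m : M, n • m = 0 := nsmul_eq_zero_of_killedBy M n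
    (killedBy_of_iso e (killedBy_pull_etale g hn))
  obtain ⟨s, hs⟩ := Groth.Agent.Sga1.StrictSection.exists_section_of_isSepClosed g w
  refine ⟨M, inferInstance, inferInstance, hM, ⟨?_⟩⟩
  exact (EtpbcA.PullFLC.pullId _).symm.app F ≪≫ (EtCore.pullCongr hs.symm).app F ≪≫
    (EtCore.pullComp s g).app F ≪≫ (EtCoh.pull s).mapIso e ≪≫ EtCore.pullConst s M

section

variable {Y X T : Scheme.{u}} (h : Y ⟶ X) [QuasiCompact h] [QuasiSeparated h] (e : Y ⟶ T)

open Groth.Agent.Etrest.StrictLoc Groth.Agent.Sga4h.SLoc Groth.Agent.Sga4h.StalkAcyc in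
/-- vanishing of `R^q h_* e^* F` for filtered colimits. -/
theorem isZero_Rpush_colim {I : Type (u + 1)} [SmallCategory I] [IsFiltered I] {D : I ⥤ EtCoh.Ab T}
    {c : Cocone D} (hc : IsColimit c) (q : ℕ)
    (H : ∀ i, IsZero ((EtCoh.Rpush h q).obj ((EtCoh.pull e).obj (D.obj i)))) :
    IsZero ((EtCoh.Rpush h q).obj ((EtCoh.pull e).obj c.pt)) := by
  refine Groth.Agent.Etcore.Stalks.isZero_of_stalks _ fun y => ?_
  obtain ⟨R, _, _, ξ, hξ, hy⟩ := exists_strictLoc X y
  have := hξ.sepClosed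
  refine ⟨IsLocalRing.ResidueField R, inferInstance, inferInstance, resPt R ≫ ξ, ?_, ?_⟩
  · rw [← hy]
    exact congrArg ξ (resPt_closedPoint R _)
  obtain ⟨e0⟩ := nonempty_stalk_iso h ((EtCoh.pull e).obj c.pt) hξ q
  obtain ⟨h1, h2⟩ := Groth.Agent.Sga4h.ColimAcyc.qcqs_of (pullback.snd h ξ)
  let W : EtCoh.Ab T ⥤ AddCommGrpCat.{u + 1} :=
    EtCoh.pull e ⋙ EtCoh.pull (pullback.fst h ξ) ⋙ EtCoh.HF (pullback h ξ) q
  have hT : PreservesColimitsOfShape I W := by
    have := EtColimBig.preservesColimits_HF_big (pullback h ξ) I q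
    have : PreservesColimitsOfShape I (EtCoh.pull e) :=
      (EtCoh.pullPushAdj e).leftAdjoint_preservesColimits.preservesColimitsOfShape
    have : PreservesColimitsOfShape I (EtCoh.pull (pullback.fst h ξ)) :=
      (EtCoh.pullPushAdj (pullback.fst h ξ)).leftAdjoint_preservesColimits.preservesColimitsOfShape
    infer_instance
  have hz : ∀ i, Subsingleton (W.obj (D.obj i)) := by
    intro i
    obtain ⟨e'⟩ := nonempty_stalk_iso h ((EtCoh.pull e).obj (D.obj i)) hξ q
    exact AddCommGrpCat.subsingleton_of_isZero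
      (((EtCoh.stalk (resPt R ≫ ξ)).map_isZero (H i)).of_iso e'.symm)
  have hs : Subsingleton (W.obj c.pt) := by
    refine subsingleton_of_forall_eq 0 fun x => ?_
    obtain ⟨i, xi, hxi⟩ := Concrete.isColimit_exists_rep (D ⋙ W) (isColimitOfPreserves W hc) x
    have h0 : xi = 0 := (hz i).elim _ _
    rw [← hxi, h0, map_zero]
  have : Subsingleton (EtCoh.H (pullback h ξ)
    ((EtCoh.pull (pullback.fst h ξ)).obj ((EtCoh.pull e).obj c.pt)) q) := hs
  exact (AddCommGrpCat.isZero_of_subsingleton _).of_iso e0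

omit [QuasiCompact h] [QuasiSeparated h] in
theorem isZero_Rpush_const (q n : ℕ)
    (H : ∀ m : ℕ, m ∣ n → m ≠ 0 → IsZero ((EtCoh.Rpush h q).obj (EtCoh.const Y (ZMod m))))
    (M : Type) [AddCommGroup M] [Finite M] (hM : ∀ x : M, n • x = 0) :
    IsZero ((EtCoh.Rpush h q).obj (EtCoh.const Y M)) := by
  have hadd : (constantSheaf Y.smallEtaleTopology AddCommGrpCat.{u + 1}).Additive :=
    Functor.additive_of_preserves_binary_products _
  have hadd3 : (constantSheaf Y.smallEtaleTopology AddCommGrpCat.{u + 1} ⋙ EtCoh.Rpush h q).Additive :=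
    inferInstance
  exact Groth.Agent.Sga4B.FinAdd.isZero_obj_of_finite
    (constantSheaf Y.smallEtaleTopology AddCommGrpCat.{u + 1} ⋙ EtCoh.Rpush h q) n H M hM

end

/-- `R^q h_* e^* F = 0` if `F` on a geometric point is killed by `n` and `R^q h_* (ℤ/d) = 0` for `d ∣ n`. -/
theorem isZero_Rpush {K : Type u} [Field K] [IsSepClosed K] {Y X : Scheme.{u}} (h : Y ⟶ X) [QuasiCompact h]
    [QuasiSeparated h] (e : Y ⟶ Spec (CommRingCat.of K)) {n : ℕ} (hn : 0 < n) (q : ℕ)
    (H : ∀ d : ℕ, d ∣ n → IsZero ((EtCoh.Rpush h q).obj (EtCoh.const Y (ZMod d))))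
    (F : EtCoh.Ab (Spec (CommRingCat.of K))) (hF : EtCoh.KilledBy n F) :
    IsZero ((EtCoh.Rpush h q).obj ((EtCoh.pull e).obj F)) := by
  obtain ⟨J, _, _, D, c, hc, hD, ⟨e0⟩⟩ := Groth.Agent.EtpbcA.TorsionColim.exists_filtered_of_killedBy hn F hF
  refine IsZero.of_iso (isZero_Rpush_colim h e hc q fun j => ?_)
    ((EtCoh.Rpush h q).mapIso ((EtCoh.pull e).mapIso e0.symm))
  obtain ⟨M, _, _, hM, ⟨e1⟩⟩ := exists_iso_const (D.obj j) (hD j).1 (hD j).2
  exact (isZero_Rpush_const h q n (fun m h1 _ => H m h1) M hM).of_iso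
    ((EtCoh.Rpush h q).mapIso ((EtCoh.pull e).mapIso e1 ≪≫ EtCore.pullConst e M))

end K625.FieldVanish
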