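import Groth.Agent.EtBC.K625.FieldExt
import Mathlib.AlgebraicGeometry.FunctionField
import Mathlib.AlgebraicGeometry.Morphisms.UnderlyingMap
import Mathlib.FieldTheory.IsAlgClosed.Basic

/-!
# Replacing a dominant geometric point by the generic point

`S'` integral with algebraically closed function field `k`, `g : Spec K ⟶ S'` dominant, `K` algebraically closed,
`d` invertible in `k`: `R^q h_* (ℤ/d)` is the same for `X' ×_{S'} Spec K` and for `X' ×_{S'} Spec k`.
-/

set_option autoImplicit false
universe u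

open CategoryTheory CategoryTheory.Limits AlgebraicGeometry Opposite

namespace K625.GenPt

theorem exists_factor {S : Scheme.{u}} [IsIntegral S] {K : Type u} [Field K] (g : Spec (CommRingCat.of K) ⟶ S)
    [IsDominant g] : ∃ t : Spec (CommRingCat.of K) ⟶ Spec S.functionField,
      t ≫ S.fromSpecStalk (genericPoint S) = g := by
  have h1 : g (IsLocalRing.closedPoint K) = genericPoint S := by
    have h2 : DenseRange g := g.denseRange
    have h3 : Set.range g = {g (IsLocalRing.closedPoint K)} := by
      ext y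
      constructor
      · rintro ⟨x, rfl⟩
        exact congrArg g (Subsingleton.elim (α := PrimeSpectrum K) _ _)
      · rintro rfl
        exact ⟨_, rfl⟩
    have h4 : IsGenericPoint (g (IsLocalRing.closedPoint K)) Set.univ := by
      rw [IsGenericPoint, ← h3]
      exact h2.closure_range
    exact h4.eq (genericPoint_spec S)
  change ∃ t : Spec (CommRingCat.of K) ⟶ Spec (S.presheaf.stalk (genericPoint S)),
    t ≫ S.fromSpecStalk (genericPoint S) = g
  rw [← h1]
  exact ⟨Spec.map (Scheme.stalkClosedPointTo g), Scheme.Spec_stalkClosedPointTo_fromSpecStalk g⟩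

theorem cast_ne_zero {S : Scheme.{u}} {n : ℕ} (hn : IsUnit (n : Γ(S, ⊤))) {K : Type u} [Field K]
    (g : Spec (CommRingCat.of K) ⟶ S) : (n : K) ≠ 0 := by
  have h1 := hn.map ((Scheme.ΓSpecIso (CommRingCat.of K)).hom.hom.comp g.appTop.hom)
  rw [map_natCast] at h1
  exact h1.ne_zero

/-- the witness over the generic point. -/
theorem exists_witness {S' X' Y : Scheme.{u}} [IsIntegral S'] [IsAlgClosed S'.functionField] {f' : X' ⟶ S'}
    {K : Type u} [Field K] [IsAlgClosed K] (g : Spec (CommRingCat.of K) ⟶ S') [IsDominant g]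
    (h : Y ⟶ X') (e : Y ⟶ Spec (CommRingCat.of K)) (c : IsPullback e h g f') (d q : ℕ)
    (hd : (d : S'.functionField) ≠ 0) (hne : ¬ IsZero ((EtCoh.Rpush h q).obj (EtCoh.const Y (ZMod d)))) :
    ∃ (Y₀ : Scheme.{u}) (h₀ : Y₀ ⟶ X') (e₀ : Y₀ ⟶ Spec S'.functionField)
      (_ : IsPullback e₀ h₀ (S'.fromSpecStalk (genericPoint S')) f'),
      ¬ IsZero ((EtCoh.Rpush h₀ q).obj (EtCoh.const Y₀ (ZMod d))) := by
  obtain ⟨t, ht⟩ := exists_factor g
  let ι : Spec S'.functionField ⟶ S' := S'.fromSpecStalk (genericPoint S')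
  have hι : IsPullback (pullback.fst ι f') (pullback.snd ι f') ι f' := IsPullback.of_hasPullback ι f'
  let m : Y ⟶ pullback ι f' := hι.lift (e ≫ t) h (by rw [Category.assoc, ht, c.w])
  have hm1 : m ≫ pullback.fst ι f' = e ≫ t := hι.lift_fst _ _ _
  have hm2 : m ≫ pullback.snd ι f' = h := hι.lift_snd _ _ _
  have h3 : IsPullback (m ≫ pullback.snd ι f') e f' (t ≫ ι) := by
    rw [hm2, ht]
    exact c.flip
  have H : IsPullback m e (pullback.fst ι f') t := IsPullback.of_right h3 hm1 hι.flip
  let i : S'.functionField →+* K := (Spec.preimage t).hom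
  have hi : Spec.map (CommRingCat.ofHom i) = t := Spec.map_preimage t
  refine ⟨pullback ι f', pullback.snd ι f', pullback.fst ι f', hι, fun hz => hne ?_⟩
  obtain ⟨e1⟩ := K625.FieldExt.nonempty_iso (k := S'.functionField) (K := K) i (a := pullback.fst ι f') (m := m)
    (e := e) (hi.symm ▸ H) d hd (pullback.snd ι f') q
  rw [hm2] at e1
  exact hz.of_iso e1.symm

end K625.GenPt
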