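import Groth.Agent.SGA4h.K557.WeakEt
import Groth.Agent.Etcore.PullJoint

/-!
# Base change maps, locally on the base

`c : IsPullback e h g f'`, `g : T ⟶ S'` quasi-compact quasi-separated.
* `isIso_bq_local`: for `j : V ⟶ S'` weakly étale, the base change of `bq c.w q F` to `X' ×_{S'} V` is an isomorphism
  iff `bq` for the base changed square is;
* `exists_affine`: if `bq c.w q F` is not an isomorphism, then it is not an isomorphism over some affine open of `S'`.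
-/

set_option autoImplicit false
universe u

open CategoryTheory CategoryTheory.Limits AlgebraicGeometry Opposite

namespace K625.LocBase

open K557.BcQ K557.WeakEt Groth.Agent.EtpbcB.BCCalc

theorem bq_congr {T S' Z P : Scheme.{u}} {g : T ⟶ S'} {t₁ t₂ : Z ⟶ S'} {r : P ⟶ Z}
    {b₁ b₂ : P ⟶ T} (ht : t₁ = t₂) (hb : b₁ = b₂) (w₁ : b₁ ≫ g = r ≫ t₁) (w₂ : b₂ ≫ g = r ≫ t₂)
    (q : ℕ) (F : EtCoh.Ab T) : IsIso (bq w₁ q F) ↔ IsIso (bq w₂ q F) := by
  subst ht; subst hb; rfl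

/-- the other form of `isIso_bq_paste`. -/
theorem isIso_bq_paste' {X S X' S' X'' S'' : Scheme.{u}} {f : X ⟶ S} {g : S' ⟶ S} {f' : X' ⟶ S'} {g' : X' ⟶ X}
    {h : S'' ⟶ S'} {f'' : X'' ⟶ S''} {h' : X'' ⟶ X'}
    (w₁ : g' ≫ f = f' ≫ g) (w₂ : h' ≫ f' = f'' ≫ h) (w : (h' ≫ g') ≫ f = f'' ≫ (h ≫ g))
    (q : ℕ) (F : EtCoh.Ab X) (h₂ : IsIso (bq w₂ q ((EtCoh.pull g').obj F))) :
    IsIso (bq w q F) ↔ IsIso ((EtCoh.pull h).map (bq w₁ q F)) := by
  have key := bq_paste w₁ w₂ w q F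
  have i1 : IsIso ((pullComp g h).hom.app ((EtCoh.Rpush f q).obj F)) := inferInstance
  have i2 : IsIso ((EtCoh.Rpush f'' q).map ((pullComp g' h').hom.app F)) := inferInstance
  have i3 : IsIso (bq w₂ q ((EtCoh.pull g').obj F) ≫ (EtCoh.Rpush f'' q).map ((pullComp g' h').hom.app F)) :=
    IsIso.comp_isIso' h₂ i2
  rw [← isIso_comp_left_iff ((pullComp g h).hom.app ((EtCoh.Rpush f q).obj F)) (bq w q F), key]
  exact isIso_comp_right_iff _ _

section

variable {T S' X' Y V TV XV YV : Scheme.{u}} {g : T ⟶ S'} [QuasiCompact g] [QuasiSeparated g] {f' : X' ⟶ S'}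
  {h : Y ⟶ X'} {e : Y ⟶ T} (c : IsPullback e h g f') {j : V ⟶ S'} [WeaklyEtale j]
  {a : TV ⟶ T} {gV : TV ⟶ V} (HT : IsPullback a gV g j)
  {b : XV ⟶ X'} {fV : XV ⟶ V} (HX : IsPullback b fV f' j)
  {eV : YV ⟶ TV} {hV : YV ⟶ XV} (HV : IsPullback eV hV gV fV)

include HT HX in
/-- base change maps and weakly étale base change of the base. -/
theorem isIso_bq_local (q : ℕ) (F : EtCoh.Ab T) :
    IsIso (bq HV.w q ((EtCoh.pull a).obj F)) ↔ IsIso ((EtCoh.pull b).map (bq c.w q F)) := by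
  have i1 : QuasiCompact h := MorphismProperty.of_isPullback (P := @QuasiCompact) c.flip.flip inferInstance
  have i2 : QuasiSeparated h := MorphismProperty.of_isPullback (P := @QuasiSeparated) c.flip.flip inferInstance
  have i3 : WeaklyEtale b := MorphismProperty.of_isPullback (P := @WeaklyEtale) HX.flip inferInstance
  have hc : (eV ≫ a) ≫ g = hV ≫ (fV ≫ j) := (HV.paste_horiz HT).w
  have h1 : IsIso (bq hc q F) ↔ IsIso (bq HV.w q ((EtCoh.pull a).obj F)) := by
    have h2 : IsIso (bq HT.w q F) := isIso_bq_of_weaklyEtale HT q F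
    exact isIso_bq_paste HT.w HV.w hc q F inferInstance
  let k : YV ⟶ Y := c.lift (eV ≫ a) (hV ≫ b) (by rw [hc, Category.assoc, HX.w])
  have hk1 : k ≫ e = eV ≫ a := c.lift_fst _ _ _
  have hk2 : k ≫ h = hV ≫ b := c.lift_snd _ _ _
  have hc' : (k ≫ e) ≫ g = hV ≫ (b ≫ f') := by rw [hk1, hc, HX.w]
  have h3 : IsPullback k hV h b := by
    have h4 : IsPullback (k ≫ e) hV g (b ≫ f') := by
      rw [hk1, HX.w]
      exact HV.paste_horiz HT
    exact IsPullback.of_right h4 hk2 c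
  have h5 : IsIso (bq hc' q F) ↔ IsIso ((EtCoh.pull b).map (bq c.w q F)) :=
    isIso_bq_paste' c.w h3.w hc' q F (isIso_bq_of_weaklyEtale h3 q _)
  rw [← h1, ← h5]
  exact bq_congr HX.w.symm hk1.symm hc hc' q F

end

section

variable {T S' X' Y : Scheme.{u}} {g : T ⟶ S'} [QuasiCompact g] [QuasiSeparated g] {f' : X' ⟶ S'}
  {h : Y ⟶ X'} {e : Y ⟶ T} (c : IsPullback e h g f')

/-- a base change map which is not an isomorphism is not an isomorphism over some affine open of the base. -/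
theorem exists_affine (q : ℕ) (F : EtCoh.Ab T) (hne : ¬ IsIso (bq c.w q F)) :
    ∃ (V : S'.Opens) (_ : IsAffineOpen V), ∀ (YV : Scheme.{u}) (eV : YV ⟶ pullback g V.ι)
      (hV : YV ⟶ pullback f' V.ι) (HV : IsPullback eV hV (pullback.snd g V.ι) (pullback.snd f' V.ι)),
      ¬ IsIso (bq HV.w q ((EtCoh.pull (pullback.fst g V.ι)).obj F)) := by
  by_contra hcon
  push Not at hcon
  apply hne
  let I := S'.affineOpens
  refine Groth.Agent.Etcore.PullJoint.isIso_of_pull (ι := I) (fun V => pullback.fst f' V.1.ι) ?_ _ fun V => ?_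
  · intro x
    obtain ⟨W, hW, hxW, -⟩ := exists_isAffineOpen_mem_and_subset (x := f' x) (U := ⊤) trivial
    obtain ⟨z, hz, -⟩ := Scheme.Pullback.exists_preimage_pullback (f := f') (g := W.ι) x ⟨f' x, hxW⟩ rfl
    exact ⟨⟨W, hW⟩, z, hz⟩
  · obtain ⟨YV, eV, hV, HV, hiso⟩ := hcon V.1 V.2
    exact (isIso_bq_local c (IsPullback.of_hasPullback g V.1.ι) (IsPullback.of_hasPullback f' V.1.ι) HV q F).1 hiso

end

end K625.LocBase
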