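import Groth.Agent.EtBC.K625.Aic
import Groth.Agent.EtBC.K625.FieldVanish
import Groth.Agent.EtBC.K625.LocBase
import Groth.Agent.S6661
import Groth.Agent.S0628

/-!
# Reduction of a counterexample to base change to a normal base with algebraically closed function field
-/

set_option autoImplicit false
universe u

open CategoryTheory CategoryTheory.Limits AlgebraicGeometry Opposite

namespace K625.Witness

open K557.BcQ

theorem bq_congr₂ {T S' X' Y : Scheme.{u}} {g₁ g₂ : T ⟶ S'} {h₁ h₂ : Y ⟶ X'} {f' : X' ⟶ S'} {e : Y ⟶ T}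
    (hg : g₁ = g₂) (hh : h₁ = h₂) (w₁ : e ≫ g₁ = h₁ ≫ f') (w₂ : e ≫ g₂ = h₂ ≫ f')
    (q : ℕ) (F : EtCoh.Ab T) : IsIso (bq w₁ q F) ↔ IsIso (bq w₂ q F) := by
  subst hg; subst hh; rfl

theorem isZero_of_isEmpty {X : Scheme.{u}} [IsEmpty X] (F : EtCoh.Ab X) : IsZero F :=
  Groth.Agent.Etcore.Stalks.isZero_of_stalks _ fun x => isEmptyElim x

theorem isIso_of_isZero {C : Type*} [Category* C] {A B : C} (hA : IsZero A) (hB : IsZero B) (φ : A ⟶ B) :
    IsIso φ :=
  ⟨hB.to_ A, hA.eq_of_src _ _, hB.eq_of_src _ _⟩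

theorem isIso_of_isEmpty {T S' X' Y : Scheme.{u}} {g : T ⟶ S'} {h : Y ⟶ X'} {f' : X' ⟶ S'} {e : Y ⟶ T}
    (w : e ≫ g = h ≫ f') [IsEmpty T] (q : ℕ) (F : EtCoh.Ab T) : IsIso (bq w q F) := by
  have hY : IsEmpty Y := Function.isEmpty e
  exact isIso_of_isZero ((EtCoh.pull f').map_isZero ((EtCoh.Rpush g q).map_isZero (isZero_of_isEmpty F)))
    ((EtCoh.Rpush h q).map_isZero (isZero_of_isEmpty _)) _

/-- the composite of a cartesian square with a factorization of its base. -/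
theorem exists_squares {T TV V XV YV S : Scheme.{u}} {gV : TV ⟶ V} {fV : XV ⟶ V} {eV : YV ⟶ TV} {hV : YV ⟶ XV}
    (HV : IsPullback eV hV gV fV) (π : T ⟶ TV) (g : T ⟶ S) (π₂ : S ⟶ V) (w : g ≫ π₂ = π ≫ gV) :
    ∃ (X'' Y'' : Scheme.{u}) (f'' : X'' ⟶ S) (π' : X'' ⟶ XV) (_ : IsPullback π' f'' fV π₂)
      (h'' : Y'' ⟶ X'') (e'' : Y'' ⟶ T) (_ : IsPullback e'' h'' g f'') (_ : IsPullback e'' (h'' ≫ π') (g ≫ π₂) fV)
      (π'' : Y'' ⟶ YV) (_ : π'' ≫ hV = h'' ≫ π') (_ : IsPullback e'' π'' π eV),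
      IsPullback e'' (π'' ≫ hV) (π ≫ gV) fV := by
  let X'' := pullback fV π₂
  let f'' : X'' ⟶ S := pullback.snd fV π₂
  let π' : X'' ⟶ XV := pullback.fst fV π₂
  have h1 : IsPullback π' f'' fV π₂ := IsPullback.of_hasPullback fV π₂
  let Y'' := pullback g f''
  let e'' : Y'' ⟶ T := pullback.fst g f''
  let h'' : Y'' ⟶ X'' := pullback.snd g f''
  have h2 : IsPullback e'' h'' g f'' := IsPullback.of_hasPullback g f''
  have h3 : IsPullback e'' (h'' ≫ π') (g ≫ π₂) fV := (h2.flip.paste_horiz h1).flip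
  let π'' : Y'' ⟶ YV := HV.lift (e'' ≫ π) (h'' ≫ π') (by rw [Category.assoc, ← w, h3.w])
  have h4 : π'' ≫ eV = e'' ≫ π := HV.lift_fst _ _ _
  have h5 : π'' ≫ hV = h'' ≫ π' := HV.lift_snd _ _ _
  have h6 : IsPullback e'' (π'' ≫ hV) (π ≫ gV) fV := by
    rw [h5, ← w]
    exact h3
  refine ⟨X'', Y'', f'', π', h1, h'', e'', h2, h3, π'', h5, ?_, h6⟩
  exact (IsPullback.of_right h6.flip h4 HV.flip).flip

theorem quasi (K : Type u) [Field K] {S : Scheme.{u}} (g : Spec (CommRingCat.of K) ⟶ S) :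
    QuasiCompact g ∧ QuasiSeparated g := by
  have h1 : IsSeparated (g ≫ terminal.from S) := by
    rw [terminal.comp_from]
    infer_instance
  have h2 : IsSeparated g := IsSeparated.of_comp g (terminal.from S)
  refine ⟨⟨fun U _ _ => ?_⟩, inferInstance⟩
  have : Subsingleton (Spec (CommRingCat.of K)) := inferInstanceAs (Subsingleton (PrimeSpectrum K))
  exact Set.Subsingleton.isCompact (Set.subsingleton_of_subsingleton)

/-- `Spec` of a field maps isomorphically onto any nonempty open. -/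
theorem isIso_of_open {K : Type u} [Field K] {U : Scheme.{u}} [Nonempty U] (j : U ⟶ Spec (CommRingCat.of K))
    [IsOpenImmersion j] : IsIso j := by
  have : Surjective j := by
    refine ⟨fun x => ?_⟩
    obtain ⟨u⟩ := (inferInstance : Nonempty U)
    exact ⟨u, Subsingleton.elim (α := PrimeSpectrum K) _ _⟩
  exact (isIso_iff_isOpenImmersion_and_epi_base j).2 ⟨inferInstance, (TopCat.epi_iff_surjective _).2 this.1⟩

section

variable {X S : Scheme.{u}} (f : X ⟶ S) (n q : ℕ) (hq : 1 ≤ q)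
    (hBC : (∀ ⦃S₁ X₁ T₁ Y₁ : Scheme.{u}⦄ (p₁ : S₁ ⟶ S) (f₁ : X₁ ⟶ S₁) (r₁ : X₁ ⟶ X),
        IsPullback r₁ f₁ f p₁ →
        ∀ (g₁ : T₁ ⟶ S₁) (h₁ : Y₁ ⟶ X₁) (e₁ : Y₁ ⟶ T₁) (c₁ : IsPullback e₁ h₁ g₁ f₁)
          [QuasiCompact g₁] [QuasiSeparated g₁] [PreservesFiniteLimits (EtCoh.pull e₁)]
          (G₁ : EtCoh.Ab T₁), EtCoh.KilledBy n G₁ →
          ∀ q₁ : ℕ, q₁ ≤ q - 1 → IsIso (EtBC.bcQ g₁ f₁ h₁ e₁ c₁.w q₁ G₁)))

include hq hBC

theorem step {S' X' Y : Scheme.{u}} (p : S' ⟶ S) (f' : X' ⟶ S') (r : X' ⟶ X) (hX : IsPullback r f' f p)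
    (K : Type u) [Field K] (g : Spec (CommRingCat.of K) ⟶ S') (h : Y ⟶ X') (e : Y ⟶ Spec (CommRingCat.of K))
    (c : IsPullback e h g f') (F : EtCoh.Ab (Spec (CommRingCat.of K))) (hF : EtCoh.KilledBy n F)
    (hne : ¬ IsIso (bq c.w q F)) :
    ∃ (S' X' Y : Scheme.{u}) (_ : IsAffine S') (_ : IsIntegral S')
      (_ : ∀ s : S', IsIntegrallyClosed (S'.presheaf.stalk s)) (_ : IsAlgClosed S'.functionField)
      (p : S' ⟶ S) (f' : X' ⟶ S') (r : X' ⟶ X) (_ : IsPullback r f' f p)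
      (K : Type u) (_ : Field K) (_ : IsAlgClosed K) (g : Spec (CommRingCat.of K) ⟶ S') (_ : IsDominant g)
      (h : Y ⟶ X') (e : Y ⟶ Spec (CommRingCat.of K)) (c : IsPullback e h g f')
      (F : EtCoh.Ab (Spec (CommRingCat.of K))), EtCoh.KilledBy n F ∧ ¬ IsIso (bq c.w q F) := by
  obtain ⟨i1, i2⟩ := quasi K g
  obtain ⟨V, hV, hVne⟩ := LocBase.exists_affine c q F hne
  have hVaff : IsAffine (V : Scheme.{u}) := hV
  let gV := pullback.snd g V.ι
  let fV := pullback.snd f' V.ι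
  have HV : IsPullback (pullback.fst gV fV) (pullback.snd gV fV) gV fV := IsPullback.of_hasPullback gV fV
  have hne1 := hVne _ _ _ HV
  have hnonempty : Nonempty ↥(pullback g V.ι) := by
    by_contra hemp
    rw [not_nonempty_iff] at hemp
    exact hne1 (isIso_of_isEmpty HV.w q _)
  have hiso : IsIso (pullback.fst g V.ι) := isIso_of_open (pullback.fst g V.ι)
  let F₁ := (EtCoh.pull (pullback.fst g V.ι)).obj F
  have hF₁ : EtCoh.KilledBy n F₁ := Groth.Agent.EtpbcB.NKillEt.killedBy_pull _ hF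
  let L := AlgebraicClosure K
  let π₀ : Spec (CommRingCat.of L) ⟶ Spec (CommRingCat.of K) := Spec.map (CommRingCat.ofHom (algebraMap K L))
  have hπ₀ : IsIntegralHom π₀ := by
    rw [IsIntegralHom.SpecMap_iff]
    exact algebraMap_isIntegral_iff.mpr inferInstance
  have hπ₀s : Surjective π₀ := by
    refine ⟨fun x => ⟨(⟨⊥, Ideal.isPrime_bot⟩ : PrimeSpectrum L), Subsingleton.elim (α := PrimeSpectrum K) _ _⟩⟩
  let π : Spec (CommRingCat.of L) ⟶ pullback g V.ι := π₀ ≫ inv (pullback.fst g V.ι)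
  have hπ : IsIntegralHom π := inferInstance
  have hπs : Surjective π := inferInstance
  obtain ⟨S'', π₂, g'', j1, j2, j3, j4, j5, j6, hfac⟩ := Aic.exists_factor (π ≫ gV)
  obtain ⟨X'', Y'', f'', π', H1, h'', e'', H2, H3, π'', h5, H4, H6⟩ := exists_squares HV π g'' π₂ hfac
  obtain ⟨k1, k2⟩ := quasi L g''
  have HX : IsPullback (pullback.fst f' V.ι ≫ r) fV f (V.ι ≫ p) :=
    (IsPullback.of_hasPullback f' V.ι).paste_horiz hX
  have pf1 : PreservesFiniteLimits (EtCoh.pull (pullback.fst gV fV)) := Groth.Agent.S0101.result _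
  have pf2 : PreservesFiniteLimits (EtCoh.pull e'') := Groth.Agent.S0101.result _
  let F₂ := (EtCoh.pull π).obj F₁
  have hne2 : ¬ IsIso (bq H6.w q F₂) := fun hi => hne1
    (Groth.Agent.S6661.result f n q hq hBC (V.ι ≫ p) fV (pullback.fst f' V.ι ≫ r) HX gV
      (pullback.snd gV fV) (pullback.fst gV fV) HV π π'' e'' H4 H6 F₁ hF₁ hi)
  have hne3 : ¬ IsIso (bq H2.w q F₂) := by
    intro hi
    apply hne2
    rw [bq_congr₂ hfac.symm h5 H6.w H3.w]
    have hπ' : IsIntegralHom π' := MorphismProperty.of_isPullback (P := @IsIntegralHom) H1.flip inferInstance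
    have hp1 : PreservesFiniteColimits (EtCoh.push π₂) :=
      Groth.Agent.Sga4A.EtSplit.preservesFiniteColimits_push π₂
    have hp2 : PreservesFiniteColimits (EtCoh.push π') :=
      Groth.Agent.Sga4A.EtSplit.preservesFiniteColimits_push π'
    have hr : (EtCoh.push π').ReflectsIsomorphisms :=
      Groth.Agent.Sga4h.IntPushZero.reflectsIsomorphisms_push π'
    have hb : IsIso (EtCoh.baseChange0 π₂ fV π' f'' H1.flip.w ((EtCoh.Rpush g'' q).obj F₂)) :=
      Groth.Agent.EtpbcB.IntegralBC.isIso_baseChange0 π₂ H1.flip _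
    exact (Groth.Agent.EtBC.K1.BqVert.isIso_bq_vpost H1.flip.w H2.w H3.w q F₂ hb).2 hi
  refine ⟨S'', X'', Y'', j1, j2, j3, j4, π₂ ≫ V.ι ≫ p, f'', π' ≫ pullback.fst f' V.ι ≫ r, ?_,
    L, inferInstance, inferInstance, g'', j6, h'', e'', H2, F₂,
    Groth.Agent.EtpbcB.NKillEt.killedBy_pull _ hF₁, hne3⟩
  exact H1.paste_horiz HX

end

theorem isZero_source {K : Type u} [Field K] [IsSepClosed K] {S : Scheme.{u}} (g : Spec (CommRingCat.of K) ⟶ S)
    {n q : ℕ} (hn : 0 < n) (hq : 1 ≤ q) (F : EtCoh.Ab (Spec (CommRingCat.of K))) (hF : EtCoh.KilledBy n F) :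
    IsZero ((EtCoh.Rpush g q).obj F) := by
  obtain ⟨i1, i2⟩ := quasi K g
  have h1 : IsSepClosed (Spec (CommRingCat.of K)).functionField := by
    let _ : Algebra (CommRingCat.of K) K := inferInstanceAs (Algebra K K)
    have : IsFractionRing (CommRingCat.of K) K := inferInstanceAs (IsFractionRing K K)
    exact Aic.isSepClosed_functionField_Spec (CommRingCat.of K) K
  refine (FieldVanish.isZero_Rpush g (𝟙 _) hn q (fun d _ => ?_) F hF).of_iso
    ((EtCoh.Rpush g q).mapIso ((Groth.Agent.EtpbcA.PullFLC.pullId _).symm.app F))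
  exact Groth.Agent.S0628.result g (fun x => Groth.Agent.Sga4h.NormalCl.isIntegrallyClosed_stalk K x) (ZMod d) q hq

/-- if all `R^q h_* (ℤ/d)` vanish, the base change map is an isomorphism. -/
theorem isIso_of_vanish {K : Type u} [Field K] [IsSepClosed K] {S' X' Y : Scheme.{u}} {f' : X' ⟶ S'}
    {g : Spec (CommRingCat.of K) ⟶ S'} {h : Y ⟶ X'} {e : Y ⟶ Spec (CommRingCat.of K)}
    (c : IsPullback e h g f') {n q : ℕ} (hn : 0 < n) (hq : 1 ≤ q)
    (H : ∀ d : ℕ, d ∣ n → IsZero ((EtCoh.Rpush h q).obj (EtCoh.const Y (ZMod d))))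
    (F : EtCoh.Ab (Spec (CommRingCat.of K))) (hF : EtCoh.KilledBy n F) : IsIso (bq c.w q F) := by
  obtain ⟨i1, i2⟩ := quasi K g
  have i3 : QuasiCompact h := MorphismProperty.of_isPullback (P := @QuasiCompact) c inferInstance
  have i4 : QuasiSeparated h := MorphismProperty.of_isPullback (P := @QuasiSeparated) c inferInstance
  exact isIso_of_isZero ((EtCoh.pull f').map_isZero (isZero_source g hn hq F hF))
    (FieldVanish.isZero_Rpush h e hn q H F hF) _

end K625.Witness
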